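import Mathlib
import Cfsg.Agent.Helper17.M11PTC.Orb
import Cfsg.Agent.Helper17.M11Q1TC.Perm
import Cfsg.Agent.Helper17.M11Q2TC.Perm
import Cfsg.Agent.Helper17.M11Q3TC.Perm

set_option autoImplicit false
set_option linter.all false

noncomputable section

namespace Cfsg.Agent.Helper17.M11Ord

open Cfsg.Spor Cfsg.Agent.Helper17.SmallSpor

theorem card_dvd_step' {P G : Type*} [Group P] [Group G] (φ : P →* G) (H : Subgroup G)
    (hH : H = φ.range) (K : Subgroup P) (n m : ℕ) (hidx : K.index = n) (hK : Nat.card K ∣ m) :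
    Nat.card H ∣ n * m := by
  subst hH
  have h1 : Nat.card φ.range ∣ Nat.card P := Subgroup.card_range_dvd φ
  have h2 : Nat.card K * K.index = Nat.card P := Subgroup.card_mul_index K
  rw [← h2, hidx, mul_comm] at h1
  exact h1.trans (Nat.mul_dvd_mul_left n hK)

/-! ### level 1 : M11Q1 → M11P -/

def emb1 : M11Q1.Gen → M11P.Gen
  | .a => .a
  | .b => .b
  | .c => .c
  | .d => .d

def f1 (x : M11Q1.Gen) : M11PTC.G := PresentedGroup.of (emb1 x)

theorem lab1 (x y : M11Q1.Gen) :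
    coxLabel M11Q1.edges x y = coxLabel M11P.edges (emb1 x) (emb1 y) := by
  cases x <;> cases y <;> decide

theorem rel1 : ∀ r ∈ M11Q1TC.Rels, FreeGroup.lift f1 r = 1 := by
  intro r hr
  rcases hr with ⟨x, _, y, _, rfl⟩ | hr
  · rw [map_pow, map_mul, FreeGroup.lift_apply_of, FreeGroup.lift_apply_of, lab1]
    exact M11PTC.cox (emb1 x) (emb1 y)
  · simp [M11Q1.extra] at hr

def phi1 : M11Q1TC.G →* M11PTC.G := PresentedGroup.toGroup rel1

theorem phi1_of (x : M11Q1.Gen) : phi1 (PresentedGroup.of x) = f1 x :=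
  PresentedGroup.toGroup.of rel1

theorem range1 : M11PTC.Hs = phi1.range := by
  have h1 : phi1.range = Subgroup.closure (Set.range f1) := by
    rw [MonoidHom.range_eq_map, ← PresentedGroup.closure_range_of, MonoidHom.map_closure]
    congr 1
    ext g
    constructor
    · rintro ⟨_, ⟨x, rfl⟩, rfl⟩; exact ⟨x, (phi1_of x).symm⟩
    · rintro ⟨x, rfl⟩; exact ⟨_, ⟨x, rfl⟩, phi1_of x⟩
  rw [h1, M11PTC.Hs, MonoidHom.map_closure]
  congr 1
  ext g
  constructor
  · rintro ⟨s, hs, rfl⟩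
    simp only [Set.mem_insert_iff, Set.mem_singleton_iff] at hs
    rcases hs with rfl | rfl | rfl | rfl
    · exact ⟨.a, rfl⟩
    · exact ⟨.b, rfl⟩
    · exact ⟨.c, rfl⟩
    · exact ⟨.d, rfl⟩
  · rintro ⟨x, rfl⟩
    cases x
    · exact ⟨M11P.a, by simp, rfl⟩
    · exact ⟨M11P.b, by simp, rfl⟩
    · exact ⟨M11P.c, by simp, rfl⟩
    · exact ⟨M11P.d, by simp, rfl⟩

/-! ### level 2 : M11Q2 → M11Q1 -/

def emb2 : M11Q2.Gen → M11Q1.Gen
  | .a => .a
  | .b => .b
  | .c => .c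

def f2 (x : M11Q2.Gen) : M11Q1TC.G := PresentedGroup.of (emb2 x)

theorem lab2 (x y : M11Q2.Gen) :
    coxLabel M11Q2.edges x y = coxLabel M11Q1.edges (emb2 x) (emb2 y) := by
  cases x <;> cases y <;> decide

theorem rel2 : ∀ r ∈ M11Q2TC.Rels, FreeGroup.lift f2 r = 1 := by
  intro r hr
  rcases hr with ⟨x, _, y, _, rfl⟩ | hr
  · rw [map_pow, map_mul, FreeGroup.lift_apply_of, FreeGroup.lift_apply_of, lab2]
    exact M11Q1TC.cox (emb2 x) (emb2 y)
  · simp [M11Q2.extra] at hr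

def phi2 : M11Q2TC.G →* M11Q1TC.G := PresentedGroup.toGroup rel2

theorem phi2_of (x : M11Q2.Gen) : phi2 (PresentedGroup.of x) = f2 x :=
  PresentedGroup.toGroup.of rel2

theorem range2 : M11Q1TC.Hs = phi2.range := by
  have h1 : phi2.range = Subgroup.closure (Set.range f2) := by
    rw [MonoidHom.range_eq_map, ← PresentedGroup.closure_range_of, MonoidHom.map_closure]
    congr 1
    ext g
    constructor
    · rintro ⟨_, ⟨x, rfl⟩, rfl⟩; exact ⟨x, (phi2_of x).symm⟩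
    · rintro ⟨x, rfl⟩; exact ⟨_, ⟨x, rfl⟩, phi2_of x⟩
  rw [h1, M11Q1TC.Hs, MonoidHom.map_closure]
  congr 1
  ext g
  constructor
  · rintro ⟨s, hs, rfl⟩
    simp only [Set.mem_insert_iff, Set.mem_singleton_iff] at hs
    rcases hs with rfl | rfl | rfl
    · exact ⟨.a, rfl⟩
    · exact ⟨.b, rfl⟩
    · exact ⟨.c, rfl⟩
  · rintro ⟨x, rfl⟩
    cases x
    · exact ⟨M11Q1.a, by simp, rfl⟩
    · exact ⟨M11Q1.b, by simp, rfl⟩
    · exact ⟨M11Q1.c, by simp, rfl⟩

/-! ### level 3 : M11Q3 → M11Q2 -/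

def emb3 : M11Q3.Gen → M11Q2.Gen
  | .a => .a
  | .b => .b

def f3 (x : M11Q3.Gen) : M11Q2TC.G := PresentedGroup.of (emb3 x)

theorem lab3 (x y : M11Q3.Gen) :
    coxLabel M11Q3.edges x y = coxLabel M11Q2.edges (emb3 x) (emb3 y) := by
  cases x <;> cases y <;> decide

theorem rel3 : ∀ r ∈ M11Q3TC.Rels, FreeGroup.lift f3 r = 1 := by
  intro r hr
  rcases hr with ⟨x, _, y, _, rfl⟩ | hr
  · rw [map_pow, map_mul, FreeGroup.lift_apply_of, FreeGroup.lift_apply_of, lab3]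
    exact M11Q2TC.cox (emb3 x) (emb3 y)
  · simp [M11Q3.extra] at hr

def phi3 : M11Q3TC.G →* M11Q2TC.G := PresentedGroup.toGroup rel3

theorem phi3_of (x : M11Q3.Gen) : phi3 (PresentedGroup.of x) = f3 x :=
  PresentedGroup.toGroup.of rel3

theorem range3 : M11Q2TC.Hs = phi3.range := by
  have h1 : phi3.range = Subgroup.closure (Set.range f3) := by
    rw [MonoidHom.range_eq_map, ← PresentedGroup.closure_range_of, MonoidHom.map_closure]
    congr 1
    ext g
    constructor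
    · rintro ⟨_, ⟨x, rfl⟩, rfl⟩; exact ⟨x, (phi3_of x).symm⟩
    · rintro ⟨x, rfl⟩; exact ⟨_, ⟨x, rfl⟩, phi3_of x⟩
  rw [h1, M11Q2TC.Hs, MonoidHom.map_closure]
  congr 1
  ext g
  constructor
  · rintro ⟨s, hs, rfl⟩
    simp only [Set.mem_insert_iff, Set.mem_singleton_iff] at hs
    rcases hs with rfl | rfl
    · exact ⟨.a, rfl⟩
    · exact ⟨.b, rfl⟩
  · rintro ⟨x, rfl⟩
    cases x
    · exact ⟨M11Q2.a, by simp, rfl⟩
    · exact ⟨M11Q2.b, by simp, rfl⟩

/-! ### bottom -/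

theorem card_bot : Nat.card M11Q3TC.Hs ∣ 2 := by
  have h : M11Q3TC.Hs = Subgroup.zpowers (M11Q3TC.gG 0) := by
    rw [M11Q3TC.Hs, MonoidHom.map_closure, Set.image_singleton, Subgroup.zpowers_eq_closure]
    rfl
  rw [h, Nat.card_zpowers]
  apply orderOf_dvd_of_pow_eq_one
  rw [pow_two]
  exact M11Q3TC.gG_mul_self 0

theorem idxL1 : M11Q1TC.Hs.index = 5 := by
  rw [Subgroup.index_eq_card]; exact M11Q1TC.card_Q

theorem idxL2 : M11Q2TC.Hs.index = 4 := by
  rw [Subgroup.index_eq_card]; exact M11Q2TC.card_Q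

theorem idxL3 : M11Q3TC.Hs.index = 3 := by
  rw [Subgroup.index_eq_card]; exact M11Q3TC.card_Q

theorem idxTop : M11PTC.Hs.index = 66 := by
  rw [Subgroup.index_eq_card]; exact M11PTC.card_Q

theorem card_Hs_dvd : Nat.card M11PTC.Hs ∣ 120 := by
  have h3 := card_dvd_step' phi3 M11Q2TC.Hs range3 M11Q3TC.Hs 3 _ idxL3 card_bot
  have h2 := card_dvd_step' phi2 M11Q1TC.Hs range2 M11Q2TC.Hs 4 _ idxL2 h3
  have h1 := card_dvd_step' phi1 M11PTC.Hs range1 M11Q1TC.Hs 5 _ idxL1 h2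
  exact h1

theorem card_G_eq : Nat.card M11PTC.G = Nat.card M11PTC.Hs * 66 := by
  rw [← idxTop, Subgroup.card_mul_index]

theorem card_G_dvd : Nat.card M11PTC.G ∣ 7920 := by
  rw [card_G_eq]
  exact (Nat.mul_dvd_mul_right card_Hs_dvd 66).trans (by norm_num)

end Cfsg.Agent.Helper17.M11Ord
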