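import Mathlib
import Cfsg.Agent.Helper17.M11Ord.Lower

/-! Simplicity of the presented group M11P: the coset action is primitive, a nontrivial
normal subgroup has order divisible by 11, hence contains every element of order 11, and the
normal closure of one such element is everything. -/

set_option autoImplicit false
set_option linter.all false
set_option maxRecDepth 100000

noncomputable section

namespace Cfsg.Agent.Helper17.M11Ord

open Cfsg.Spor Cfsg.Agent.Helper17.SmallSpor Cfsg.Agent.Helper17.M11PTC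

theorem psiQ_smul (g : G) (q : Q) : psiQ (g • q) = phi g (psiQ q) := by
  unfold psiQ; rw [TCG.psi_smul]

theorem trans0 {p : ℕ} (hp : p < N) : ∃ g : G, phi g 0 = p := by
  obtain ⟨g, hg⟩ : ∃ g : G, nd p = g • n0 := by
    induction (nd p) using QuotientGroup.induction_on with
    | H g => exact ⟨g, by simp [n0, MulAction.Quotient.smul_mk]⟩
  refine ⟨g, ?_⟩
  have h1 := hpsi p hp
  rw [hg, psiQ_smul, psi_n0] at h1
  exact h1

theorem stab0 {g : G} : phi g 0 = 0 ↔ g ∈ Hs := by
  rw [← Kof0, mem_Kof]; simp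

theorem mem_of_same_image {L : Subgroup G} (hL : Hs ≤ L) {g₁ g₂ : G}
    (h : phi g₁ 0 = phi g₂ 0) (h2 : g₂ ∈ L) : g₁ ∈ L := by
  have h3 : g₂⁻¹ * g₁ ∈ Hs := by
    rw [← stab0, map_mul, map_inv, Equiv.Perm.mul_apply, h]
    simp
  have := L.mul_mem h2 (hL h3)
  simpa using this

theorem gG_mem_Hs {l : ℕ} (hl : l < nl) (hne : l ≠ 4) : gG l ∈ Hs := by
  unfold nl at hl
  interval_cases l
  · exact Subgroup.mem_map_of_mem _ (Subgroup.subset_closure (by simp : M11P.a ∈ _))
  · exact Subgroup.mem_map_of_mem _ (Subgroup.subset_closure (by simp : M11P.b ∈ _))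
  · exact Subgroup.mem_map_of_mem _ (Subgroup.subset_closure (by simp : M11P.c ∈ _))
  · exact Subgroup.mem_map_of_mem _ (Subgroup.subset_closure (by simp : M11P.d ∈ _))
  · exact absurd rfl hne


theorem hgenG : Subgroup.closure {g : G | ∃ l, l < nl ∧ g = gG l} = ⊤ := by
  rw [eq_top_iff, ← PresentedGroup.closure_range_of]
  apply Subgroup.closure_mono
  rintro _ ⟨a, rfl⟩
  exact ⟨idx a, idx_lt a, by rw [gG, gen_idx]⟩

theorem top_of_og {L : Subgroup G} (hL : Hs ≤ L) (h6 : gG 4 ∈ L) : L = ⊤ := by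
  rw [eq_top_iff, ← hgenG, Subgroup.closure_le]
  rintro _ ⟨l, hl, rfl⟩
  by_cases h : l = 4
  · subst h; exact h6
  · exact hL (gG_mem_Hs hl h)

theorem oid0 {i : ℕ} (hi : i < N) (h : oid i = 0) : i = 0 := by
  obtain ⟨g, hg, e⟩ := orb_reach 0 (odep i) i hi rfl h
  have e' : phi g 0 = i := e
  rw [hH g hg] at e'
  exact e'.symm

def chkOid : Bool := (List.range N).all fun i => decide (oid i < 4)

theorem chkOid_ok : chkOid = true := by decide +kernel

theorem oid_ltc {i : ℕ} (hi : i < N) : oid i < 4 := by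
  have h := chkOid_ok
  simp only [chkOid, List.all_eq_true, List.mem_range, decide_eq_true_eq] at h
  exact h i hi

theorem key1 {L : Subgroup G} (hL : Hs ≤ L) {g : G} (hg : g ∈ L) (ho : oid (phi g 0) = 1) :
    gG 4 ∈ L := by
  have h6 : phi (gG 4) 0 = 1 := by
    rw [phi_gG (by decide), σ_apply]; decide +kernel
  obtain ⟨h, hh, e⟩ := orb_reach 1 (odep _) (phi g 0) (phi_lt g N_pos) rfl ho
  have e' : phi h 1 = phi g 0 := e
  have h1 : phi (h * gG 4) 0 = phi g 0 := by
    rw [map_mul, Equiv.Perm.mul_apply, h6]; exact e'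
  have hm : h * gG 4 ∈ L := mem_of_same_image hL h1 hg
  have := L.mul_mem (L.inv_mem (hL hh)) hm
  simpa using this

theorem stepc {L : Subgroup G} (hL : Hs ≤ L) (c root j c' : ℕ) (w : List ℕ)
    (hw : ∀ l ∈ w, l < nl)
    (hroot : oroot c = root) (hy : evalw w 0 = root) (hjN : j < N) (hjc : oid j = c)
    (hj1 : oid (evalw w j) = c') {l : G} (hl : l ∈ L) (ho : oid (phi l 0) = c) :
    ∃ l' ∈ L, oid (phi l' 0) = c' := by
  have hiN : phi l 0 < N := phi_lt l N_pos
  obtain ⟨h, hh, e⟩ := orb_reach c (odep _) (phi l 0) hiN rfl ho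
  rw [hroot] at e
  have hy0 : phi (prodw w) 0 = root := by
    rw [phi_prodw_apply _ hw]; exact hy
  have hyL : prodw w ∈ L := by
    have h1 : phi (h * prodw w) 0 = phi l 0 := by
      rw [map_mul, Equiv.Perm.mul_apply, hy0]; exact e
    have hm := mem_of_same_image hL h1 hl
    have := L.mul_mem (L.inv_mem (hL hh)) hm
    simpa using this
  obtain ⟨h', hh', e2⟩ := orb_reach c (odep j) j hjN rfl hjc
  rw [hroot] at e2
  refine ⟨prodw w * h' * prodw w, L.mul_mem (L.mul_mem hyL (hL hh')) hyL, ?_⟩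
  rw [map_mul, map_mul, Equiv.Perm.mul_apply, Equiv.Perm.mul_apply, hy0, e2,
    phi_prodw_apply _ hw]
  exact hj1

theorem maximal {L : Subgroup G} (hL : Hs ≤ L) {l : G} (hl : l ∈ L) (hn : l ∉ Hs) : L = ⊤ := by
  apply top_of_og hL
  have hiN : phi l 0 < N := phi_lt l N_pos
  have hi0 : phi l 0 ≠ 0 := fun h => hn (stab0.mp h)
  have k1 : ∀ l ∈ L, oid (phi l 0) = 1 → gG 4 ∈ L := fun l hl h => key1 hL hl h
  have k2 : ∀ l ∈ L, oid (phi l 0) = 2 → gG 4 ∈ L := fun l hl h => by
    obtain ⟨l', hl', h'⟩ := stepc hL 2 8 17 1 [4, 2, 4] (by decide) rfl (by decide +kernel) (by decide)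
      (by decide +kernel) (by decide +kernel) hl h
    exact k1 l' hl' h'
  have k3 : ∀ l ∈ L, oid (phi l 0) = 3 → gG 4 ∈ L := fun l hl h => by
    obtain ⟨l', hl', h'⟩ := stepc hL 3 42 42 2 [4, 0, 1, 2, 4, 2, 4] (by decide) rfl (by decide +kernel) (by decide)
      (by decide +kernel) (by decide +kernel) hl h
    exact k2 l' hl' h'
  have hcase : oid (phi l 0) = 1 ∨ oid (phi l 0) = 2 ∨ oid (phi l 0) = 3 := by
    have h3 := oid_ltc hiN
    have h0 : oid (phi l 0) ≠ 0 := fun h => hi0 (oid0 hiN h)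
    omega
  rcases hcase with h1 | h2 | h3
  · exact k1 l hl h1
  · exact k2 l hl h2
  · exact k3 l hl h3

/-! ### word calculus -/

theorem prodw_append (u v : List ℕ) : prodw (u ++ v) = prodw v * prodw u := by
  induction u with
  | nil => simp [prodw]
  | cons l u ih => simp [prodw, ih, mul_assoc]

theorem prodw_reverse (u : List ℕ) : prodw u.reverse = (prodw u)⁻¹ := by
  induction u with
  | nil => simp [prodw]
  | cons l u ih =>
    rw [List.reverse_cons, prodw_append, ih, prodw, prodw, prodw, one_mul, mul_inv_rev, gG_inv]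

theorem prodw_replicate (k : ℕ) (u : List ℕ) :
    prodw (List.replicate k u).flatten = prodw u ^ k := by
  induction k with
  | zero => simp [prodw]
  | succ k ih =>
    rw [List.replicate_succ, List.flatten_cons, prodw_append, ih, pow_succ]

theorem prodw_eq_of_chk {u v : List ℕ} (h : chkBase (u ++ v.reverse) = true) :
    prodw u = prodw v := by
  have := prodw_eq_one h
  rw [prodw_append, prodw_reverse, inv_mul_eq_one] at this
  exact this.symm

/-! ### the element of prime order -/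

def wx : List ℕ := [1, 4, 0, 1, 2]
def wu : List ℕ := [3]
def wc : List ℕ := [0, 2, 1, 4, 2, 3, 1, 4, 0, 1, 2, 3, 1, 4, 0, 1, 2, 3, 1, 4, 0, 1, 2, 3, 1, 4, 0, 1, 4, 1, 2, 0, 2, 1, 4, 2]

def xG : G := prodw wx

theorem xG_pow : xG ^ 11 = 1 := by
  rw [xG, ← prodw_replicate]
  exact prodw_eq_one (by decide +kernel)

theorem xG_ne : xG ≠ 1 := by
  intro h
  have h1 : phi xG 0 = 0 := by rw [h, map_one, Equiv.Perm.one_apply]
  rw [xG, phi_prodw_apply _ (by decide)] at h1
  revert h1
  decide +kernel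

theorem orderOf_xG : orderOf xG = 11 := by
  haveI : Fact (Nat.Prime 11) := ⟨by norm_num⟩
  exact orderOf_eq_prime xG_pow xG_ne

/-- the target generator is a product of conjugates of `xG`. -/
theorem a_eq : gG 0 =
    (prodw wc)⁻¹ * (xG * ((prodw wu)⁻¹ * xG * prodw wu)) ^ 2 * prodw wc := by
  have h : prodw [0] =
      prodw (wc ++ (List.replicate 2 ((wu ++ wx ++ wu.reverse) ++ wx)).flatten ++ wc.reverse) :=
    prodw_eq_of_chk (by decide +kernel)
  rw [prodw_append, prodw_append, prodw_replicate, prodw_append, prodw_append, prodw_append,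
    prodw_reverse, prodw_reverse] at h
  rw [show prodw [0] = gG 0 by simp [prodw]] at h
  rw [h, xG]
  group

theorem a_mem_of_x_mem {M : Subgroup G} [M.Normal] (hx : xG ∈ M) : gG 0 ∈ M := by
  rw [a_eq]
  have h1 : (prodw wu)⁻¹ * xG * prodw wu ∈ M := by
    have := ‹M.Normal›.conj_mem xG hx (prodw wu)⁻¹
    simpa using this
  have h2 := M.pow_mem (M.mul_mem hx h1) 2
  have := ‹M.Normal›.conj_mem _ h2 (prodw wc)⁻¹
  simpa using this

/-! ### from `gG 0 ∈ M` to `M = ⊤` -/

theorem one_of_odd {Γ : Type*} [Group Γ] {y : Γ} (h2 : y ^ 2 = 1) {m : ℕ} (hm : y ^ m = 1)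
    (hodd : m % 2 = 1) : y = 1 := by
  have h1 : orderOf y ∣ 2 := orderOf_dvd_of_pow_eq_one h2
  have h3 : orderOf y ∣ m := orderOf_dvd_of_pow_eq_one hm
  rcases (Nat.dvd_prime Nat.prime_two).mp h1 with h | h
  · exact orderOf_eq_one_iff.mp h
  · rw [h] at h3; omega

theorem top_of_a_mem {M : Subgroup G} [M.Normal] (ha : gG 0 ∈ M) : M = ⊤ := by
  set π : G →* G ⧸ M := QuotientGroup.mk' M with hπ
  have hker : ∀ g : G, π g = 1 → g ∈ M := fun g hg => by
    rwa [hπ, QuotientGroup.mk'_apply, QuotientGroup.eq_one_iff] at hg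
  have sq : ∀ l, π (gG l) ^ 2 = 1 := by
    intro l; rw [← map_pow, pow_two, gG_mul_self, map_one]
  have p0 : π (gG 0) = 1 := by
    rw [hπ, QuotientGroup.mk'_apply, QuotientGroup.eq_one_iff]; exact ha
  have cx : ∀ i j m, coxLabel M11P.edges (gen i) (gen j) = m → (π (gG i) * π (gG j)) ^ m = 1 := by
    intro i j m hm
    rw [← map_mul, ← map_pow, ← hm, coxG, map_one]
  have p1 : π (gG 1) = 1 := by
    have h := cx 0 1 3 (by decide)
    rw [p0, one_mul] at h
    exact one_of_odd (sq 1) h (by norm_num)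
  have p2 : π (gG 2) = 1 := by
    have h := cx 1 2 3 (by decide)
    rw [p1, one_mul] at h
    exact one_of_odd (sq 2) h (by norm_num)
  have p3 : π (gG 3) = 1 := by
    have h := cx 2 3 3 (by decide)
    rw [p2, one_mul] at h
    exact one_of_odd (sq 3) h (by norm_num)
  have p4 : π (gG 4) = 1 := by
    have h := cx 0 4 3 (by decide)
    rw [p0, one_mul] at h
    exact one_of_odd (sq 4) h (by norm_num)

  rw [eq_top_iff, ← hgenG, Subgroup.closure_le]
  rintro _ ⟨l, hl, rfl⟩
  apply hker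
  unfold nl at hl
  interval_cases l
  · exact p0
  · exact p1
  · exact p2
  · exact p3
  · exact p4


/-! ### the Sylow argument -/

theorem factP : (Nat.card G).factorization 11 = 1 := by
  rw [card_G]
  have h1 : (11 : ℕ) ^ 1 ∣ 7920 := by norm_num
  have h2 : ¬ (11 : ℕ) ^ 2 ∣ 7920 := by norm_num
  have hp : Nat.Prime 11 := by norm_num
  rw [hp.pow_dvd_iff_le_factorization (by norm_num)] at h1 h2
  omega

theorem x_mem_of_orderP {M : Subgroup G} [M.Normal] {y : G} (hy : y ∈ M)
    (hyP : orderOf y = 11) : xG ∈ M := by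
  haveI := finG
  haveI : Fact (Nat.Prime 11) := ⟨by norm_num⟩
  have cy : Nat.card (Subgroup.zpowers y) = 11 ^ (Nat.card G).factorization 11 := by
    rw [factP, Nat.card_zpowers, hyP, pow_one]
  have cx : Nat.card (Subgroup.zpowers xG) = 11 ^ (Nat.card G).factorization 11 := by
    rw [factP, Nat.card_zpowers, orderOf_xG, pow_one]
  set Py : Sylow 11 G := Sylow.ofCard (Subgroup.zpowers y) cy with hPy
  set Px : Sylow 11 G := Sylow.ofCard (Subgroup.zpowers xG) cx with hPx
  obtain ⟨g, hg⟩ := MulAction.exists_smul_eq G Py Px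
  have hx : xG ∈ (Px : Subgroup G) := by
    rw [hPx, Sylow.coe_ofCard]; exact Subgroup.mem_zpowers xG
  rw [← hg, Sylow.coe_subgroup_smul, Subgroup.mem_pointwise_smul_iff_inv_smul_mem] at hx
  rw [hPy, Sylow.coe_ofCard] at hx
  have hM : (MulAut.conj g)⁻¹ • xG ∈ M := (Subgroup.zpowers_le.mpr hy) hx
  rw [MulAut.smul_def, MulAut.conj_inv_apply] at hM
  have := ‹M.Normal›.conj_mem _ hM g
  simpa [mul_assoc] using this

/-! ### main theorem -/

theorem prime_dvd {M : Subgroup G} [M.Normal] (hM : M ⊔ Hs = ⊤) : 11 ∣ Nat.card M := by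
  haveI := finG
  have h1 : M.index = M.relIndex Hs := by
    rw [← Subgroup.relIndex_top_right, ← hM, Subgroup.relIndex_sup_left]
  have h2 : M.relIndex Hs ∣ Nat.card Hs := Subgroup.relIndex_dvd_card _ _
  have h3 : Nat.card M * M.index = Nat.card G := Subgroup.card_mul_index M
  have h4 : M.index ∣ 120 := (h1 ▸ h2).trans card_Hs_dvd
  have h5 : (11 : ℕ) ∣ Nat.card M * M.index := by rw [h3, card_G]; norm_num
  have hp : Nat.Prime 11 := by norm_num
  rcases hp.dvd_mul.mp h5 with h | h
  · exact h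
  · exfalso
    have := h.trans h4
    norm_num at this

theorem eq_top_of_normal {M : Subgroup G} [hMn : M.Normal] (hne : M ≠ ⊥) : M = ⊤ := by
  haveI := finG
  have hnot : ¬ M ≤ Hs := by
    intro hle
    apply hne
    rw [eq_bot_iff]
    intro m hm
    rw [Subgroup.mem_bot]
    apply eq_one_of_fix
    intro b hb
    have hbN : b < N := by
      simp only [List.mem_cons, List.not_mem_nil, or_false] at hb
      rcases hb with rfl | rfl | rfl <;> decide
    obtain ⟨g, hg⟩ := trans0 hbN
    have h1 : g⁻¹ * m * g ∈ Hs := by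
      apply hle
      have := hMn.conj_mem m hm g⁻¹
      simpa using this
    rw [← stab0, map_mul, map_mul, map_inv, Equiv.Perm.mul_apply, Equiv.Perm.mul_apply, hg,
      Equiv.Perm.inv_eq_iff_eq] at h1
    rw [hg] at h1
    exact h1
  obtain ⟨m, hm, hmn⟩ := SetLike.not_le_iff_exists.mp hnot
  have htop : M ⊔ Hs = ⊤ := maximal le_sup_right (Subgroup.mem_sup_left hm) hmn
  have hP := prime_dvd htop
  haveI : Fact (Nat.Prime 11) := ⟨by norm_num⟩
  obtain ⟨y, hy⟩ := exists_prime_orderOf_dvd_card' 11 hP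
  have hy' : orderOf (y : G) = 11 := by rw [Subgroup.orderOf_coe]; exact hy
  have hx := x_mem_of_orderP y.2 hy'
  exact top_of_a_mem (a_mem_of_x_mem hx)

theorem isSimple : IsSimpleGroup G := by
  haveI : Nontrivial G := by
    haveI := finG
    rw [← Finite.one_lt_card_iff_nontrivial, card_G]; norm_num
  exact ⟨fun M hM => by
    by_cases h : M = ⊥
    · exact Or.inl h
    · exact Or.inr (@eq_top_of_normal M hM h)⟩

end Cfsg.Agent.Helper17.M11Ord
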